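import Cfsg.Agent.Lib.KH.Mod
import Cfsg.Agent.Lib.H9Fit
import Cfsg.Agent.Lib.NF.Defs

/-! Khukhro's theorem: the Fitting height of `G` equals that of `C_G(H)`. -/

set_option autoImplicit false

namespace CfsgLib.KH

open Subgroup Cfsg CfsgLib.FT CfsgLib.FT.BGN CfsgLib.Cop CfsgLib.H9 CfsgLib.H8Fpf
open scoped commutatorElement

universe u v

variable {X : Type u} [Group X] [Finite X] {G F H : Subgroup X}

/-- the subgroup generated by the `F`-conjugates of `c` -/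
def orb (F : Subgroup X) (c : X) : Subgroup X := closure {x | ∃ f ∈ F, x = f * c * f⁻¹}

theorem mem_norm_orb {c t : X} (h : ∀ f ∈ F, ∃ f' ∈ F, t * (f * c * f⁻¹) * t⁻¹ = f' * c * f'⁻¹) :
    t ∈ 𝐍(orb F c) := mem_normalizer_of_conj_mem (by
  have : orb F c ≤ (orb F c).comap (MulAut.conj t).toMonoidHom := by
    refine (closure_le _).2 ?_
    rintro _ ⟨f, hf, rfl⟩
    exact subset_closure (h f hf)
  exact fun x hx => this hx)

theorem comm_eq_bot (h : FCfg G F H) {Q0 : Subgroup X} (hQG : Q0 ≤ G)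
    (hQ : Group.IsNilpotent Q0) (hF : F ≤ 𝐍(Q0)) {c : X} (hc0 : c ∈ Q0) (hcH : c ∈ 𝐂(H))
    (M : Subgroup X) : M ≤ G → Group.IsSolvable M → Q0 ⊔ F ⊔ H ≤ 𝐍(M) →
      (Nat.card Q0).Coprime (Nat.card M) → (∀ m ∈ M, m ∈ 𝐂(H) → c * m = m * c) →
      ⁅M, zpowers c⁆ = ⊥ := by
  have hle : orb F c ≤ Q0 := (closure_le _).2 (by
    rintro _ ⟨f, hf, rfl⟩
    exact conj_mem_of_mem_normalizer (hF hf) hc0)
  have hcO : c ∈ orb F c := subset_closure ⟨1, one_mem _, by group⟩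
  have hFO : F ≤ 𝐍(orb F c) := fun t ht => mem_norm_orb fun f hf =>
    ⟨t * f, mul_mem ht hf, by group⟩
  have hHO : H ≤ 𝐍(orb F c) := fun t ht => mem_norm_orb fun f hf =>
    ⟨t * f * t⁻¹, conj_mem_of_mem_normalizer (h.hF ht) hf, by
      have := hcH t ht
      calc t * (f * c * f⁻¹) * t⁻¹ = t * f * t⁻¹ * (t * c) * (f⁻¹ * t⁻¹) := by group
        _ = _ := by rw [this]; group⟩
  induction M using WellFoundedLT.induction with
  | ind M ih =>
  intro hMG hs hM hcop hcm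
  by_cases h0 : M = ⊥
  · rw [h0, commutator_bot_left]
  obtain ⟨N, ℓ, hℓ, hd, hlt, hN, hc, hp, -⟩ := exists_chief_sec hs h0 hM
  have := Fact.mk hℓ
  have hs' := isSolvable_of_le hs hlt.le
  have hcop' := hcop.coprime_dvd_right (card_dvd_of_le hlt.le)
  obtain ⟨L, hL⟩ : ∃ L, L = orb F c ⊔ F ⊔ H := ⟨_, rfl⟩
  have lQ : orb F c ≤ L := hL ▸ le_sup_left.trans le_sup_left
  have lF : F ≤ L := hL ▸ le_sup_right.trans le_sup_left
  have lH : H ≤ L := hL ▸ le_sup_right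
  have lL : L ≤ Q0 ⊔ F ⊔ H := hL ▸ sup_le_sup_right (sup_le_sup_right hle _) _
  have hz : zpowers c ≤ Q0 := zpowers_le.2 hc0
  have hN' := lL.trans hN
  refine commutator_eq_bot_of_le_of_centralizes
    ((H9.le_relCent_iff ((zpowers_le.2 (lQ hcO)).trans hN')).1 (zpowers_le.2 ?_))
    (ih N hlt (hlt.le.trans hMG) hs' hN hcop' fun m hm => hcm m (hlt.le hm))
    (hcop'.coprime_dvd_left (card_dvd_of_le hz))
  obtain ⟨W, _, _, _, ρ, ι, S, -, -⟩ := h.exists_sec hMG hlt.le (lL.trans hM) hN' lF hc hp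
  have hO : L ≤ 𝐍(orb F c) := hL ▸ sup_le (sup_le le_normalizer hFO) hHO
  have hOn := normal_subgroupOf_of_le_normalizer hO
  have hsemi : Semi (F.subgroupOf L) (H.subgroupOf L) :=
    ⟨fun _ hr => mem_normalizer_iff.2 fun x => mem_normalizer_iff.1 (h.hF hr) x,
     fun r hr h1 f hf e => Subtype.ext ((h.frob r hr fun e => h1 (Subtype.ext e)).le
      ⟨hf, fun _ hy => hy ▸ congrArg Subtype.val e⟩)⟩
  refine ⟨hN' (lQ hcO), (S.rho_eq_one_iff ⟨c, lQ hcO⟩).1 (rho_eq_one (h.toCfg.subgroupOf lF) hsemi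
    (Q := (orb F c).subgroupOf L) (fun x hx => hQG (hle hx))
    (Group.nilpotent_of_mulEquiv (_h := isNilpotent_of_le hQ hle) (subgroupOfEquivOfLe lQ).symm)
    (fun e => ?_) le_normalizer_of_normal le_normalizer_of_normal hcO (fun x hx => ?_)
    fun w => ?_)⟩
  · rw [CharP.cast_eq_zero_iff _ ℓ, Nat.card_congr (subgroupOfEquivOfLe lQ).toEquiv] at e
    exact hℓ.one_lt.ne' (Nat.eq_one_of_dvd_coprimes hcop (e.trans (card_dvd_of_le hle)) hd)
  · have : orb F c ≤ (closure {x : L | ∃ f ∈ F.subgroupOf L,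
        x = f * ⟨c, lQ hcO⟩ * f⁻¹}).map L.subtype := by
      refine (closure_le _).2 ?_
      rintro _ ⟨f, hf, rfl⟩
      exact ⟨_, subset_closure ⟨⟨f, lF hf⟩, hf, rfl⟩, rfl⟩
    obtain ⟨y, hy, e⟩ := this hx
    rwa [← (Subtype.ext e : y = x)]
  refine LinearMap.congr_fun (S.ext (T := ρ _ ∘ₗ normOp ρ _) fun a ha => ?_) w
  obtain ⟨m, hm, e1, e2⟩ := S.exists_normOp_eq (H.subgroupOf L) ha
  obtain ⟨n, hn, e3⟩ := h.cover' (hlt.le.trans hMG) hs' (lF.trans hN') (lH.trans hN')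
    fun x hx => e1 ⟨x, lH hx⟩ hx
  have h5 := mul_mem (hlt.le hn) hm
  have e4 : ι (n * m) = ι m := by
    rw [S.map_mul _ (hlt.le hn) _ hm, (S.eq_zero_iff _ (hlt.le hn)).2 hn, zero_add]
  rw [LinearMap.comp_apply, ← e2, ← e4, ← S.conj _ _ h5]
  exact congrArg ι (mul_inv_eq_iff_eq_mul.2 (hcm _ h5 e3))

omit [Finite X] in
theorem map_le_norm {N K T : Subgroup X} (hK : T ≤ 𝐍(K)) {Y : Type*} [Group Y] (f : N →* Y) :
    (T.subgroupOf N).map f ≤ 𝐍((K.subgroupOf N).map f) := by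
  refine H1.map_normalizer_le' (fun a ha => mem_normalizer_iff.2 fun x => ?_) _
  exact mem_normalizer_iff.1 (hK ha) x

/-- the statement proved by induction -/
def Key (q : ℕ) (G H : Subgroup X) : Prop := ∀ D : Subgroup X, IsPGroup q D →
  D ≤ G ⊓ 𝐂(H) → G ⊓ 𝐂(H) ≤ 𝐍(D) → D ≤ pCoreOf q G

theorem pull {q : ℕ} [Fact q.Prime] (h : FCfg G F H) (hs : Group.IsSolvable G)
    (ih : ∀ (Y : Type u) [Group Y] [Finite Y] (G' F' H' : Subgroup Y), Nat.card G' < Nat.card G →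
      FCfg G' F' H' → Group.IsSolvable G' → Key q G' H')
    {N : Subgroup X} (h0 : N ≠ ⊥) (h1 : N ≤ G) (hN : 𝐍(G) ≤ 𝐍(N)) {D : Subgroup X}
    (hD : IsPGroup q D) (d1 : D ≤ G ⊓ 𝐂(H)) (d2 : G ⊓ 𝐂(H) ≤ 𝐍(D)) :
    ∃ K : Subgroup X, N ≤ K ∧ K ≤ G ∧ G ⊔ F ⊔ H ≤ 𝐍(K) ∧ D ≤ K ∧
      ∀ x ∈ K, ∃ k, x ^ q ^ k ∈ N := by
  have h4 := le_normalizer.trans hN
  obtain ⟨Y, _, _, f, hf, c, e⟩ := h.exists_quot h1 (isSolvable_of_le hs h1) h4
    (h.norm.trans hN) (h.hG.trans hN)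
  have hDN := d1.trans (inf_le_left.trans h4)
  have k := ih Y _ _ _ ((card_quot_lt h4 hf).2 h0 h1) c
    (isSolvable_map (isSolvable_subgroupOf hs _) f) ((D.subgroupOf 𝐍(N)).map f)
    ((hD.comap_subtype).map f) (by
      refine le_inf (map_mono fun x hx => (d1 hx).1) ?_
      rintro _ ⟨x, hx, rfl⟩ _ ⟨y, hy, rfl⟩
      rw [← map_mul, ← map_mul]
      exact congrArg f (Subtype.ext ((d1 hx).2 y hy))) (e.trans (map_le_norm d2 f))
  refine ⟨((pCoreOf q ((G.subgroupOf 𝐍(N)).map f)).comap f).map 𝐍(N).subtype ⊓ G,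
    le_inf (fun n hn => ⟨⟨n, le_normalizer hn⟩, ?_, rfl⟩) h1, inf_le_right,
    fun t ht => ?_, le_inf (fun x hx => ⟨⟨x, hDN hx⟩, k (mem_map_of_mem f hx), rfl⟩)
    (d1.trans inf_le_left), ?_⟩
  · have : f ⟨n, le_normalizer hn⟩ = 1 := (show (⟨n, le_normalizer hn⟩ : 𝐍(N)) ∈ f.ker from hf ▸ hn)
    rw [SetLike.mem_coe, mem_comap, this]
    exact one_mem _
  · have ht' : t ∈ 𝐍(G) := sup_le (sup_le le_normalizer h.norm) h.hG ht
    refine mem_normalizer_of_conj_mem ?_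
    rintro _ ⟨⟨x, hx, rfl⟩, hx'⟩
    refine ⟨⟨⟨t, hN ht'⟩ * x * ⟨t, hN ht'⟩⁻¹, ?_, rfl⟩, conj_mem_of_mem_normalizer ht' hx'⟩
    rw [SetLike.mem_coe, mem_comap, map_mul, map_mul, map_inv]
    exact conj_mem_of_mem_normalizer (H1.normalizer_le_normalizer_pCoreOf _
      (map_le_norm (T := 𝐍(G)) le_rfl f (mem_map_of_mem f ht'))) hx
  · rintro _ ⟨⟨x, hx, rfl⟩, -⟩
    obtain ⟨k, hk⟩ := H1.pCoreOf_isPGroup _ ⟨f x, hx⟩
    have : x ^ q ^ k ∈ f.ker := by
      rw [MonoidHom.mem_ker, map_pow]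
      exact congrArg Subtype.val hk
    rw [hf] at this
    exact ⟨k, this⟩

theorem key_aux (q : ℕ) [hq : Fact q.Prime] (n : ℕ) : ∀ (X : Type u) [Group X] [Finite X]
    (G F H : Subgroup X), Nat.card G = n → FCfg G F H → Group.IsSolvable G → Key q G H := by
  induction n using Nat.strong_induction_on with
  | _ n ih =>
  intro X _ _ G F H hn h hs D hD d1 d2
  have ih' : ∀ (Y : Type u) [Group Y] [Finite Y] (G' F' H' : Subgroup Y),
      Nat.card G' < Nat.card G → FCfg G' F' H' → Group.IsSolvable G' → Key q G' H' :=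
    fun Y _ _ G' F' H' hlt => ih _ (hn ▸ hlt) Y G' F' H' rfl
  by_cases h0 : pCoreOf q G = ⊥
  swap
  · obtain ⟨K, -, k2, k3, k4, k5⟩ := pull h hs ih' h0 (H1.pCoreOf_le G)
      (H1.normalizer_le_normalizer_pCoreOf G) hD d1 d2
    refine k4.trans (H1.le_pCoreOf k2 ((le_sup_left.trans le_sup_left).trans k3) fun x => ?_)
    obtain ⟨k, hk⟩ := k5 x x.2
    obtain ⟨l, hl⟩ := H1.pCoreOf_isPGroup G ⟨_, hk⟩
    have := congrArg Subtype.val hl
    exact ⟨k + l, Subtype.ext (by rw [pow_add, pow_mul]; exact this)⟩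
  refine H1.le_pCoreOf_of_le_fittingOf ((le_inf (d1.trans inf_le_left) (le_centralizer_comm
    (H1.fittingOf_le_of_forall fun p hp => ?_))).trans
    (H1.inf_centralizer_fittingOf_le (H1.layerIn_eq_bot_of_isSolvable hs))) hD
  by_cases hP : pCoreOf p G = ⊥
  · exact hP.le.trans bot_le
  have hpq : q ≠ p := fun e => hP (by subst e; exact h0)
  have p1 := H1.pCoreOf_le (p := p) G
  have p2 := H1.pCoreOf_isPGroup (p := p) G
  have p3 := H1.normalizer_le_normalizer_pCoreOf (p := p) G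
  have p4 := le_normalizer.trans p3
  obtain ⟨K, k1, k2, k3, k4, k5⟩ := pull h hs ih' hP p1 p3 hD d1 d2
  have hK := h.sub k2 ((le_sup_right.trans le_sup_left).trans k3) (le_sup_right.trans k3)
  obtain ⟨Q, hQ, q1, q2⟩ := hK.exists_sylow' q
  have hQG := hQ.le.trans k2
  have hcop := coprime_of_isPGroup_ne hQ.isPGroup p2 hpq
  have hKQ : K ≤ pCoreOf p G ⊔ Q := le_of_forall_sylow fun r hr _ => by
    by_cases e : r = q
    · subst e
      exact ⟨Q, hQ, le_sup_right⟩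
    obtain ⟨S, hS, -⟩ := hK.toCfg.exists_sylow r
    refine ⟨S, hS, fun x hx => mem_sup_left ?_⟩
    obtain ⟨k, hk⟩ := k5 x (hS.le hx)
    obtain ⟨i, hi⟩ := hS.isPGroup.exists_card_eq
    exact mem_of_pow_mem hk (Nat.Coprime.coprime_dvd_right (hi ▸ orderOf_dvd_natCard _ hx)
      (Nat.Coprime.pow _ _ ((Nat.coprime_primes hq.1 hr.1).2 (Ne.symm e))))
  have hb : ∀ E : Subgroup X, IsPGroup q E → ∀ x ∈ E, x ∈ pCoreOf p G → x = 1 := fun E hE x h1 h2 =>
    (inf_eq_bot_of_cop (coprime_of_isPGroup_ne hE p2 hpq)).le ⟨h1, h2⟩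
  refine le_centralizer_comm fun c hc => ?_
  obtain ⟨a, ha, y, hy, e⟩ := mem_sup_norm (hQG.trans p4) (hKQ (k4 hc))
  have hcH := (d1 hc).2
  have hyH : y ∈ 𝐂(H) := fun x hx => by
    have := hb Q hQ.isPGroup (x * y * x⁻¹ * y⁻¹)
      (mul_mem (conj_mem_of_mem_normalizer (q2 hx) hy) (inv_mem hy)) (by
        have e1 : y = a⁻¹ * c := by rw [← e]; group
        have e2 : x * y * x⁻¹ * y⁻¹ = x * a⁻¹ * x⁻¹ * a := by
          rw [e1]
          calc _ = x * a⁻¹ * x⁻¹ * (x * c) * x⁻¹ * c⁻¹ * a := by group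
            _ = _ := by rw [hcH x hx]; group
        rw [e2]
        exact mul_mem (conj_mem_of_mem_normalizer (p3 (h.hG hx)) (inv_mem ha)) ha)
    rwa [mul_inv_eq_one, mul_inv_eq_iff_eq_mul] at this
  have ha1 : a = 1 := hb (D ⊔ zpowers y) (isPGroup_sup' (zpowers_le.2 (d2 ⟨hQG hy, hyH⟩)) hD
    (hQ.isPGroup.to_le (zpowers_le.2 hy))) a (by
      rw [eq_mul_inv_of_mul_eq e]
      exact mul_mem (mem_sup_left hc) (mem_sup_right (inv_mem (mem_zpowers y)))) ha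
  rw [ha1, one_mul] at e
  subst e
  have := comm_eq_bot h hQG hQ.isPGroup.isNilpotent q1 hy hyH _ p1 (isSolvable_of_le hs p1)
    (sup_le (sup_le (hQG.trans p4) (h.norm.trans p3)) (h.hG.trans p3)) hcop fun m hm hm' => by
      have := hb D hD (m * y * m⁻¹ * y⁻¹)
        (mul_mem (conj_mem_of_mem_normalizer (d2 ⟨p1 hm, hm'⟩) hc) (inv_mem hc)) (by
          rw [mul_assoc, mul_assoc, ← mul_assoc y]
          exact mul_mem hm (conj_mem_of_mem_normalizer (p4 (hQG hy)) (inv_mem hm)))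
      rw [mul_inv_eq_one, mul_inv_eq_iff_eq_mul] at this
      exact this.symm
  exact le_centralizer_comm (commutator_eq_bot_iff_le_centralizer.1 this) (mem_zpowers y)

theorem le_fitting (h : FCfg G F H) (hs : Group.IsSolvable G) {D : Subgroup X}
    (hD : Group.IsNilpotent D) (d1 : D ≤ G ⊓ 𝐂(H)) (d2 : G ⊓ 𝐂(H) ≤ 𝐍(D)) : D ≤ fittingOf G := by
  rw [← H1.fittingOf_eq_self hD]
  exact H1.fittingOf_le_of_forall fun p _ => (key_aux p _ X G F H rfl h hs _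
    (H1.pCoreOf_isPGroup D) ((H1.pCoreOf_le D).trans d1)
    (d2.trans (H1.normalizer_le_normalizer_pCoreOf D))).trans (H1.pCoreOf_le_fittingOf p G)

theorem lfs_aux (n : ℕ) : ∀ (X : Type u) [Group X] [Finite X] (G F H : Subgroup X),
    FCfg G F H → Group.IsSolvable G → lfs (G ⊓ 𝐂(H)) n = ⊥ → lfs G n = ⊥ := by
  induction n with
  | zero =>
    intro X _ _ G F H h hs e
    exact le_bot_iff.1 (h.le_of_cent (B := ⊥) le_normalizer_of_normal le_normalizer_of_normal e.le)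
  | succ n ih =>
    intro X _ _ G F H h hs e
    rw [lfs_succ, res_eq_bot_iff] at e
    have h1 := le_fitting h hs e (lfs_le _ _)
      (le_normalizer.trans (normalizer_le_normalizer_lfs _ _))
    have f1 := H1.fittingOf_le G
    have f3 := H1.normalizer_le_normalizer_fittingOf G
    have f4 := le_normalizer.trans f3
    obtain ⟨Y, _, _, f, hf, c, e'⟩ := h.exists_quot f1 (isSolvable_of_le hs f1) f4
      (h.norm.trans f3) (h.hG.trans f3)
    have k : ∀ K : Subgroup X, K ≤ G → (lfs ((K.subgroupOf 𝐍(fittingOf G)).map f) n = ⊥ ↔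
        lfs K n ≤ fittingOf G) := fun K hK => by
      rw [← lfs_le_ker_iff, hf, subgroupOf, subgroupOf, ← map_le_iff_le_comap, map_lfs,
        ← subgroupOf, map_subgroupOf_eq_of_le (hK.trans f4)]
    have := (k G le_rfl).1 (ih Y _ _ _ c (isSolvable_map (isSolvable_subgroupOf hs _) f) (le_bot_iff.1
      ((lfs_mono e' n).trans ((k _ inf_le_left).2 h1).le)))
    rw [lfs_succ, res_eq_bot_iff]
    exact isNilpotent_of_le (H1.fittingOf_isNilpotent G) this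

theorem s4362 (hS : NF.Sol.{max u v}) {G : Type u} {A : Type v} [Group G] [Finite G] [Group A]
    [Finite A] [MulDistribMulAction A G] (Fk Hc : Subgroup A) (hHc : IsFrobeniusComplement Hc)
    (hker : frobeniusKernel Hc = (Fk : Set A))
    (hCF : ∀ g : G, (∀ f ∈ Fk, f • g = g) → g = 1) (C : Subgroup G)
    (hC : ∀ g : G, g ∈ C ↔ ∀ h ∈ Hc, h • g = g) (n : ℕ) :
    (∃ F : Fin (n + 1) → Subgroup G, F 0 = ⊥ ∧ F (Fin.last n) = ⊤ ∧ Monotone F ∧
      (∀ i, (F i).Normal) ∧ ∀ i : Fin n, ∃ k : ℕ, (F i.succ).lowerCentralSeries k ≤ F i.castSucc) ↔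
    (∃ F : Fin (n + 1) → Subgroup ↥C, F 0 = ⊥ ∧ F (Fin.last n) = ⊤ ∧ Monotone F ∧
      (∀ i, (F i).Normal) ∧
      ∀ i : Fin n, ∃ k : ℕ, (F i.succ).lowerCentralSeries k ≤ F i.castSucc) := by
  refine ⟨fun h => chain_of_lfs (lfs_eq_bot_of_map C.subtype_injective (le_bot_iff.1
    ((lfs_mono le_top n).trans (lfs_of_chain h).le))), fun h => chain_of_lfs ?_⟩
  let φ := MulDistribMulAction.toMulAut A G
  have hfin := CopAut.finite_semidirect (φ := φ)
  have c := H8Fpf.fcfg_of_action φ Fk Hc hHc hker hCF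
  refine lfs_eq_bot_of_map (f := (SemidirectProduct.inl : G →* G ⋊[φ] A))
    SemidirectProduct.inl_injective (lfs_aux n _ _ _ _ c (hS _ _ _ c.toCfg) (le_bot_iff.1
      ((lfs_mono (K := (⊤ : Subgroup C).map
        ((SemidirectProduct.inl : G →* G ⋊[φ] A).comp C.subtype)) ?_ n).trans ?_)))
  · rintro _ ⟨⟨x, -, rfl⟩, hx⟩
    exact ⟨⟨x, (hC x).2 (CopAut.inl_mem_centralizer_R_iff.1 hx)⟩, trivial, rfl⟩
  · rw [← map_lfs, lfs_of_chain h, Subgroup.map_bot]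

end CfsgLib.KH
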