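import Cfsg.Agent.Lib.H8FrobAct
import Cfsg.Agent.Lib.FT.BG3

/-! Khukhro's module lemma for a Frobenius group of operators with fixed point free kernel. -/

set_option autoImplicit false

namespace CfsgLib.KH

open Subgroup Cfsg CfsgLib.FT CfsgLib.FT.BGN CfsgLib.Cop CfsgLib.H9 CfsgLib.H8Fpf
open scoped commutatorElement

universe u

section frob

variable {Y : Type u} [Group Y] [Finite Y] {F R : Subgroup Y}

omit [Finite Y] in
theorem semi_eq_one (h : Semi F R) {a x : Y} (ha : a ∈ F) (hx : x ∈ R) (h1 : x ≠ 1)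
    (e : a * x * a⁻¹ ∈ R) : a = 1 := by
  have h2 : a * (x * a⁻¹ * x⁻¹) ∈ F := mul_mem ha (h.conj hx (inv_mem ha))
  have h3 : a * (x * a⁻¹ * x⁻¹) ∈ R := by
    have := mul_mem e (inv_mem hx)
    simpa only [mul_assoc] using this
  have h4 : a * (x * a⁻¹ * x⁻¹) = 1 := by
    by_contra hne
    exact hne (h.frob _ h3 hne _ h2 rfl)
  refine h.frob x hx h1 a ha ?_
  calc x * a = (a * (x * a⁻¹ * x⁻¹))⁻¹ * (a * x) := by group
    _ = a * x := by rw [h4]; group

/-- A subgroup meeting two complements contains the element of the kernel joining them. -/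
theorem mem_of_meets (h : Semi F R) (hF : Group.IsSolvable F) {S : Subgroup Y} {x y f : Y}
    (hx : x ∈ R) (hx1 : x ≠ 1) (hxS : x ∈ S) (hy : y ∈ R) (hy1 : y ≠ 1) (hf : f ∈ F)
    (hyS : f⁻¹ * y * f ∈ S) : f ∈ S := by
  have hcop : (Nat.card R).Coprime (Nat.card F) := semiregular_coprime h.norm fun r hr h1 =>
    eq_bot_iff.2 fun g hg => mem_bot.2 (h.frob r hr h1 g hg.1 (hg.2 r rfl))
  have hN : F ⊔ R ≤ 𝐍(F) := sup_le le_normalizer h.norm
  have hS0 : S ⊓ (F ⊔ R) ≤ 𝐍(F) := inf_le_right.trans hN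
  have hd : F.relIndex (S ⊓ (F ⊔ R)) ∣ Nat.card R := by
    have h1 : F.relIndex (S ⊓ (F ⊔ R)) ∣ F.relIndex (F ⊔ R) := by
      have : (F.subgroupOf (F ⊔ R)).Normal := normal_subgroupOf_of_le_normalizer hN
      have h2 := relIndex_dvd_index_of_normal (F.subgroupOf (F ⊔ R))
        ((S ⊓ (F ⊔ R)).subgroupOf (F ⊔ R))
      rwa [relIndex_subgroupOf inf_le_right] at h2
    rw [relIndex_sup_left_of_le_normalizer h.norm] at h1
    exact h1.trans (relIndex_dvd_card F R)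
  obtain ⟨B, hB1, hB2, hB3, hB4⟩ := exists_complement_of_le_normalizer (N := F) hS0
    ((hcop.symm.coprime_dvd_left (card_dvd_of_le inf_le_left)).coprime_dvd_right hd)
  have hN1 : B ≤ 𝐍(F ⊓ (S ⊓ (F ⊔ R))) :=
    H1.le_normalizer_inf (hB1.trans hS0) (hB1.trans le_normalizer)
  have key : ∀ z ∈ S ⊓ (F ⊔ R), orderOf z ∣ Nat.card R →
      ∃ n ∈ F ⊓ (S ⊓ (F ⊔ R)), n * z * n⁻¹ ∈ B := fun z hz ho => by
    obtain ⟨n, hn, e⟩ := exists_conj_le_of_le_sup (B := zpowers z) hN1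
      (by rw [hB3]; exact zpowers_le.2 hz)
      (by rw [Nat.card_zpowers]
          exact (hcop.coprime_dvd_left ho).coprime_dvd_right (card_dvd_of_le inf_le_left))
      (Or.inr (isSolvable_of_le hF inf_le_left))
    exact ⟨n, hn, e (conj_mem_map_conj (mem_zpowers z))⟩
  obtain ⟨n1, hn1, e1⟩ := key x ⟨hxS, mem_sup_right hx⟩ (orderOf_dvd_natCard _ hx)
  obtain ⟨n2, hn2, e2⟩ := key (f⁻¹ * y * f) ⟨hyS, mul_mem (mul_mem (mem_sup_left (inv_mem hf))
    (mem_sup_right hy)) (mem_sup_left hf)⟩ (by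
      have := (MulAut.conj f⁻¹).orderOf_eq y
      rw [MulAut.conj_apply, inv_inv] at this
      rw [this]
      exact orderOf_dvd_natCard _ hy)
  obtain ⟨n3, hn3, e3⟩ := exists_conj_le_of_le_sup (B := B) h.norm (hB1.trans inf_le_right)
    (hcop.coprime_dvd_left (hB4 ▸ hd)) (Or.inr hF)
  have k1 : n3 * n1 = 1 := semi_eq_one h (mul_mem hn3 hn1.1) hx hx1 (by
    have := e3 (conj_mem_map_conj e1)
    simpa only [mul_inv_rev, mul_assoc] using this)
  have k2 : n3 * n2 * f⁻¹ = 1 := semi_eq_one h (mul_mem (mul_mem hn3 hn2.1) (inv_mem hf)) hy hy1 (by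
    have := e3 (conj_mem_map_conj e2)
    simpa only [mul_inv_rev, inv_inv, mul_assoc] using this)
  have k3 : f = n1⁻¹ * n2 := by
    calc f = (n3 * n2 * f⁻¹) * f := by rw [k2, one_mul]
      _ = (n3 * n1) * (n1⁻¹ * n2) := by group
      _ = _ := by rw [k1, one_mul]
  rw [k3]
  exact mul_mem (inv_mem hn1.2.1) hn2.2.1

end frob

variable {k : Type*} [Field k] {W : Type*} [AddCommGroup W] [Module k W] {Y : Type u} [Group Y]
  [Finite Y] {ρ : Y →* Module.End k W}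

/-- The class sums of `Q`. -/
noncomputable def clS (ρ : Y →* Module.End k W) (Q : Subgroup Y) (z : Y) : Module.End k W :=
  ∑ᶠ x : Q, ρ (x * z * (x : Y)⁻¹)

theorem clS_conj {Q : Subgroup Y} {y : Y} (hy : y ∈ 𝐍(Q)) (z : Y) (v : W) :
    clS ρ Q z (ρ y v) = ρ y (clS ρ Q (y⁻¹ * z * y) v) := by
  have := Fintype.ofFinite Q
  rw [clS, clS, finsum_eq_sum_of_fintype, finsum_eq_sum_of_fintype, LinearMap.sum_apply,
    LinearMap.sum_apply, map_sum]
  refine Fintype.sum_bijective (fun x : Q => (⟨y⁻¹ * x * y, conj_mem_of_mem_normalizer' hy x.2⟩ : Q))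
    (Finite.injective_iff_bijective.1 fun a b e => Subtype.ext (by
      simpa using congrArg Subtype.val e)) _ _ fun x => ?_
  rw [← rho_mul_apply, ← rho_mul_apply]
  congr 2
  group

theorem clS_conj_mem {Q : Subgroup Y} {y : Y} (hy : y ∈ Q) (z : Y) :
    clS ρ Q (y⁻¹ * z * y) = clS ρ Q z := by
  have := Fintype.ofFinite Q
  rw [clS, clS, finsum_eq_sum_of_fintype, finsum_eq_sum_of_fintype]
  refine Fintype.sum_equiv (Equiv.mulRight (⟨y⁻¹, inv_mem hy⟩ : Q)) _ _ fun x => ?_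
  congr 1
  simp only [Equiv.coe_mulRight, coe_mul]
  group

/-- Weight spaces for the class sums. -/
def wtS (ρ : Y →* Module.End k W) (Q : Subgroup Y) (ψ : Y → k) : Submodule k W where
  carrier := {v | ∀ z ∈ Q, clS ρ Q z v = ψ z • v}
  zero_mem' := fun z _ => by simp
  add_mem' := fun ha hb z hz => by rw [map_add, ha z hz, hb z hz, smul_add]
  smul_mem' := fun c v hv z hz => by rw [map_smul, hv z hz, smul_comm]

theorem wtS_conj {Q : Subgroup Y} {ψ : Y → k} {v : W} (hv : v ∈ wtS ρ Q ψ) {y : Y}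
    (hy : y ∈ 𝐍(Q)) : ρ y v ∈ wtS ρ Q fun z => ψ (y⁻¹ * z * y) := fun z hz => by
  rw [clS_conj hy, hv _ (conj_mem_of_mem_normalizer' hy hz), map_smul]

theorem wtS_mem {Q : Subgroup Y} {ψ : Y → k} {v : W} (hv : v ∈ wtS ρ Q ψ) {y : Y}
    (hy : y ∈ Q) : ρ y v ∈ wtS ρ Q ψ := fun z hz => by
  rw [clS_conj (le_normalizer hy), clS_conj_mem hy, hv z hz, map_smul]

theorem wtS_sum {Q : Subgroup Y} {ι : Type*} (ψ : ι → Y → k) (j : ι) (s : Finset ι) :
    ∀ (v : ι → W), (∀ i ∈ s, v i ∈ wtS ρ Q (ψ i)) → j ∈ s →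
      (∀ i ∈ s, i ≠ j → ∃ z ∈ Q, ψ i z ≠ ψ j z) → ∑ i ∈ s, v i = 0 → v j = 0 := by
  classical
  induction s using Finset.strongInduction with
  | H s ih =>
    intro v hv hj hd h0
    by_cases hs : s = {j}
    · rwa [hs, Finset.sum_singleton] at h0
    obtain ⟨i, hi, hij⟩ : ∃ i ∈ s, i ≠ j := by
      by_contra hc
      push Not at hc
      exact hs (Finset.eq_singleton_iff_unique_mem.2 ⟨hj, hc⟩)
    obtain ⟨z, hz, hne⟩ := hd i hi hij
    have h1 : ∑ l ∈ s, (ψ l z - ψ i z) • v l = 0 := by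
      have h2 := congrArg (clS ρ Q z) h0
      rw [map_sum, map_zero, Finset.sum_congr rfl fun l hl => hv l hl z hz] at h2
      simp only [sub_smul, Finset.sum_sub_distrib, h2, ← Finset.smul_sum, h0, smul_zero, sub_zero]
    rw [← Finset.sum_erase s (a := i) (by simp)] at h1
    have h3 := ih (s.erase i) (Finset.erase_ssubset hi) (fun l => (ψ l z - ψ i z) • v l)
      (fun l hl => Submodule.smul_mem _ _ (hv l (Finset.mem_of_mem_erase hl)))
      (Finset.mem_erase.2 ⟨hij.symm, hj⟩)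
      (fun l hl => hd l (Finset.mem_of_mem_erase hl)) h1
    exact (smul_eq_zero.1 h3).resolve_left (sub_ne_zero.2 hne.symm)

/-- A component whose translate is permuted freely by `R`. -/
theorem fix_of_free {Q R : Subgroup Y} (hR : R ≤ 𝐍(Q)) {c : Y} (hc : c ∈ Q)
    (h1 : ∀ w, ρ c (normOp ρ R w) = normOp ρ R w) (ψ : Y → k) {f : Y} (hf : f ∈ 𝐍(Q))
    (hfree : ∀ r ∈ R, r ≠ 1 → f⁻¹ * r * f ∉ stabSub ρ (wtS ρ Q ψ)) :
    f⁻¹ * c * f ∈ fixSub ρ (wtS ρ Q ψ) := by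
  classical
  intro w hw
  have := Fintype.ofFinite R
  have hn : ∀ r : R, f⁻¹ * r * f ∈ 𝐍(Q) := fun r => mul_mem (mul_mem (inv_mem hf) (hR r.2)) hf
  have hc' : f⁻¹ * c * f ∈ Q := conj_mem_of_mem_normalizer' hf hc
  have key := wtS_sum (ρ := ρ) (Q := Q)
    (fun (r : R) z => ψ ((f⁻¹ * r * f)⁻¹ * z * (f⁻¹ * r * f))) 1 Finset.univ
    (fun r => ρ (f⁻¹ * c * f) (ρ (f⁻¹ * r * f) w) - ρ (f⁻¹ * r * f) w)
    (fun r _ => sub_mem (wtS_mem (wtS_conj hw (hn r)) hc') (wtS_conj hw (hn r)))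
    (Finset.mem_univ _) (fun r _ hr => by
      by_contra hcon
      push Not at hcon
      refine hfree r r.2 (fun e => hr (Subtype.ext e)) fun v hv z hz => ?_
      rw [wtS_conj hv (hn r) z hz]
      have e := hcon z hz
      simp only [] at e ⊢
      rw [e]
      simp) (by
      have h2 := congrArg (ρ f⁻¹) (h1 (ρ f w))
      rw [normOp_eq, LinearMap.sum_apply, map_sum, map_sum, map_sum] at h2
      rw [Finset.sum_sub_distrib, sub_eq_zero]
      simpa only [rho_mul_apply, rho_apply_inv_apply] using h2)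
  simpa [sub_eq_zero] using key

theorem rho_eq_one [IsAlgClosed k] [FiniteDimensional k W] {G F R Q : Subgroup Y} (hG : Cfg G F)
    (h : Semi F R) (hQG : Q ≤ G) (hQ : Group.IsNilpotent Q) (hk : (Nat.card Q : k) ≠ 0)
    (hF : F ≤ 𝐍(Q)) (hR : R ≤ 𝐍(Q)) {c : Y} (hc : c ∈ Q)
    (hgen : Q ≤ closure {x | ∃ f ∈ F, x = f * c * f⁻¹})
    (h1 : ∀ w, ρ c (normOp ρ R w) = normOp ρ R w) : ρ c = 1 := by
  classical
  by_contra hne
  obtain ⟨D, hD⟩ : ∃ D, D = closure {x | ∃ y ∈ Q, x = y * c * y⁻¹} := ⟨_, rfl⟩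
  have hDQ : D ≤ Q := by
    rw [hD, closure_le]
    rintro _ ⟨y, hy, rfl⟩
    exact mul_mem (mul_mem hy hc) (inv_mem hy)
  have hcD : c ∈ D := hD ▸ subset_closure ⟨1, one_mem _, by group⟩
  have hQD : Q ≤ 𝐍(D) := fun y hy => mem_normalizer_of_conj_mem (by
    have : D ≤ D.comap (MulAut.conj y).toMonoidHom := by
      conv_lhs => rw [hD]
      rw [closure_le]
      rintro _ ⟨x, hx, rfl⟩
      change y * (x * c * x⁻¹) * y⁻¹ ∈ D
      exact hD ▸ subset_closure ⟨y * x, mul_mem hy hx, by group⟩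
    exact fun x hx => this hx)
  have hkD : (Nat.card D : k) ≠ 0 := fun e => by
    obtain ⟨m, hm⟩ := card_dvd_of_le hDQ
    exact hk (by rw [hm, Nat.cast_mul, e, zero_mul])
  have := Fintype.ofFinite D
  have := Fintype.ofFinite Q
  obtain ⟨U, u1, u2, u3, u4⟩ := exists_minimal_invariant (ρ '' Q) (LinearMap.ker (normOp ρ D))
    (ker_normOp_ne_bot ⟨c, hcD, hne⟩) (by
      rintro _ ⟨y, hy, rfl⟩ v hv
      rw [LinearMap.mem_ker, normOp_eq, LinearMap.sum_apply] at hv ⊢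
      have h2 := congrArg (ρ y) hv
      rw [map_sum, map_zero] at h2
      rw [← h2]
      refine Fintype.sum_bijective
        (fun x : D => (⟨y⁻¹ * x * y, conj_mem_of_mem_normalizer' (hQD hy) x.2⟩ : D))
        (Finite.injective_iff_bijective.1 fun a b e => Subtype.ext (by
          simpa using congrArg Subtype.val e)) _ _ fun x => ?_
      rw [← rho_mul_apply, ← rho_mul_apply]
      congr 2
      group)
  have u3' : ∀ g ∈ Q, ∀ v ∈ U, ρ g v ∈ U := fun g hg => u3 _ ⟨g, hg, rfl⟩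
  have : ∀ z : Y, ∃ t : k, z ∈ Q → ∀ v ∈ U, clS ρ Q z v = t • v := by
    intro z
    by_cases hz : z ∈ Q
    · obtain ⟨t, ht⟩ := exists_scalar_on_min _ u2 u3 u4 (clS ρ Q z) (fun v hv => by
        rw [clS, finsum_eq_sum_of_fintype, LinearMap.sum_apply]
        exact sum_mem fun x _ => u3' _ (mul_mem (mul_mem x.2 hz) (inv_mem x.2)) v hv) (by
        rintro _ ⟨y, hy, rfl⟩ v -
        rw [clS_conj (le_normalizer hy), clS_conj_mem hy])
      exact ⟨t, fun _ => ht⟩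
    · exact ⟨0, fun h => absurd h hz⟩
  choose ψ hψ using this
  obtain ⟨V, hV⟩ : ∃ V, V = wtS ρ Q ψ := ⟨_, rfl⟩
  have hUV : U ≤ V := fun v hv => hV ▸ fun z hz => hψ z hz v hv
  have hQV : ∀ g ∈ Q, ∀ v ∈ V, ρ g v ∈ V := fun g hg v hv => by
    rw [hV] at hv ⊢; exact wtS_mem hv hg
  have hcV : c ∉ fixSub ρ V := fun e => by
    obtain ⟨v, hv, hv0⟩ := (Submodule.ne_bot_iff _).1 u2
    refine hv0 (eq_zero_of_mem_ker_normOp hkD (u1 hv) fun g hg => ?_)
    have : D ≤ fixSub ρ V := by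
      rw [hD, closure_le]
      rintro _ ⟨y, hy, rfl⟩ w hw
      rw [rho_mul_apply, rho_mul_apply, e _ (hQV _ (inv_mem hy) w hw), rho_apply_inv_apply]
    exact this hg v (hUV hv)
  obtain ⟨x, hx, hx1, hxS⟩ : ∃ x ∈ R, x ≠ 1 ∧ x ∈ stabSub ρ V := by
    by_contra hcon
    push Not at hcon
    have := fix_of_free hR hc h1 ψ (one_mem _) fun r hr h1 => by
      rw [← hV]; simpa using hcon r hr h1
    rw [← hV] at this
    exact hcV (by simpa using this)
  have hout : ∀ f ∈ F, f ∉ stabSub ρ V → f⁻¹ * c * f ∈ fixSub ρ V := fun f hf hfS => by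
    have := fix_of_free hR hc h1 ψ (hF hf) fun r hr h1 e => hfS (by
      rw [← hV] at e
      exact mem_of_meets h (haveI := hG.nil; inferInstance) hx hx1 hxS hr h1 hf e)
    rwa [← hV] at this
  -- a central element
  obtain ⟨Z, z1, -, -, z4, z5⟩ := exists_central_sec (A := ⊥) (D := fixSub ρ V) hQ bot_le
    fun e => hcV (e hc)
  obtain ⟨z, hz, hzV⟩ := SetLike.not_le_iff_exists.1 z4
  obtain ⟨t, ht⟩ : ∃ t : k, ∀ v ∈ V, ρ z v = t • v := by
    refine ⟨(Nat.card Q : k)⁻¹ * ψ z, fun v hv => ?_⟩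
    have h2 : clS ρ Q z v = (Nat.card Q : k) • ρ z v := by
      rw [clS, finsum_eq_sum_of_fintype, LinearMap.sum_apply, Finset.sum_congr rfl
        (g := fun _ => ρ z v) fun y _ => ?_]
      · rw [Finset.sum_const, Finset.card_univ, ← Nat.card_eq_fintype_card, Nat.cast_smul_eq_nsmul]
      · have h3 := z5 (commutator_mem_commutator (inv_mem hz) y.2) v hv
        conv_rhs => rw [← h3, ← rho_mul_apply]
        congr 2
        rw [commutatorElement_def]
        group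
    rw [mul_smul, ← (hV ▸ hv : v ∈ wtS ρ Q ψ) z (z1 hz), h2, smul_smul, inv_mul_cancel₀ hk,
      one_smul]
  -- the part acting only on `V`
  let P : Subgroup Y := Q ⊓ ⨅ f ∈ F, ⨅ _ : f ∉ stabSub ρ V,
    (fixSub ρ V).comap (MulAut.conj f⁻¹).toMonoidHom
  have hP : ∀ y, y ∈ P ↔ y ∈ Q ∧ ∀ f ∈ F, f ∉ stabSub ρ V → f⁻¹ * y * f ∈ fixSub ρ V := fun y => by
    simp only [P, mem_inf, mem_iInf, mem_comap, MulEquiv.toMonoidHom_eq_coe, MonoidHom.coe_coe,
      MulAut.conj_apply, inv_inv]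
  have hQP : Q ≤ fixSub ρ V ⊔ P := hgen.trans (by
    rw [closure_le]
    rintro _ ⟨f, hf, rfl⟩
    by_cases hfS : f ∈ stabSub ρ V
    · refine mem_sup_right ((hP _).2 ⟨conj_mem_of_mem_normalizer (hF hf) hc, fun g hg hgS => ?_⟩)
      have := hout (f⁻¹ * g) (mul_mem (inv_mem hf) hg) fun e => hgS (by
        simpa using mul_mem hfS e)
      simpa only [mul_inv_rev, inv_inv, mul_assoc] using this
    · have := hout f⁻¹ (inv_mem hf) fun e => hfS (by simpa using inv_mem e)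
      rw [inv_inv] at this
      exact mem_sup_left this)
  obtain ⟨n, hn, p, hp, e⟩ := mem_sup_norm (N := fixSub ρ V) (U := P)
    (fun y hy => mem_normalizer_fixSub (hQV y ((hP y).1 hy).1)) (hQP (z1 hz))
  obtain ⟨hpQ, hp2⟩ := (hP p).1 hp
  have hp1 : ∀ v ∈ V, ρ p v = t • v := fun v hv => by
    rw [← ht v hv, ← e, rho_mul_apply, hn _ (hQV p hpQ v hv)]
  have hp3 : ∀ f ∈ stabSub ρ V, ∀ v ∈ V, ρ (f⁻¹ * p * f) v = t • v := fun f hf v hv => by
    rw [rho_mul_apply, rho_mul_apply, hp1 _ (hf v hv), map_smul, rho_inv_apply_apply]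
  have ind : ∀ s : Finset F, ∃ y ∈ Q, ∀ f ∈ F,
      ((∃ g ∈ s, (g : Y)⁻¹ * f ∈ stabSub ρ V) → ∀ v ∈ V, ρ (f⁻¹ * y * f) v = t • v) ∧
      ((¬ ∃ g ∈ s, (g : Y)⁻¹ * f ∈ stabSub ρ V) → ∀ v ∈ V, ρ (f⁻¹ * y * f) v = v) := by
    intro s
    induction s using Finset.induction_on with
    | empty => exact ⟨1, one_mem _, fun f _ => ⟨fun ⟨g, hg, _⟩ => absurd hg (by simp),
        fun _ v _ => by simp⟩⟩
    | insert a s _ ih =>
      obtain ⟨y, hy, ih⟩ := ih
      by_cases ha : ∃ g ∈ s, (g : Y)⁻¹ * a ∈ stabSub ρ V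
      · obtain ⟨g0, hg0, ha⟩ := ha
        refine ⟨y, hy, fun f hf => ⟨fun ⟨g, hg, e⟩ => (ih f hf).1 ?_, fun e => (ih f hf).2
          fun ⟨g, hg, e'⟩ => e ⟨g, Finset.mem_insert_of_mem hg, e'⟩⟩⟩
        rcases Finset.mem_insert.1 hg with rfl | hg
        · exact ⟨g0, hg0, by simpa [mul_assoc] using mul_mem ha e⟩
        · exact ⟨g, hg, e⟩
      · have e0 : ∀ f : Y, f⁻¹ * (y * (a * p * (a : Y)⁻¹)) * f =
            (f⁻¹ * y * f) * (((a : Y)⁻¹ * f)⁻¹ * p * ((a : Y)⁻¹ * f)) := fun f => by group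
        refine ⟨y * (a * p * (a : Y)⁻¹), mul_mem hy (conj_mem_of_mem_normalizer (hF a.2) hpQ),
          fun f hf => ⟨fun ⟨g, hg, e⟩ v hv => ?_, fun e v hv => ?_⟩⟩
        · rw [e0, rho_mul_apply]
          by_cases haf : (a : Y)⁻¹ * f ∈ stabSub ρ V
          · rw [hp3 _ haf v hv, map_smul, (ih f hf).2 (fun ⟨g, hg, e⟩ => ha ⟨g, hg, by
              simpa [mul_assoc] using mul_mem e (inv_mem haf)⟩) v hv]
          · rw [hp2 _ (mul_mem (inv_mem a.2) hf) haf v hv]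
            refine (ih f hf).1 ⟨g, (Finset.mem_insert.1 hg).resolve_left ?_, e⟩ v hv
            rintro rfl
            exact haf e
        · rw [e0, rho_mul_apply, hp2 _ (mul_mem (inv_mem a.2) hf)
            (fun h => e ⟨a, Finset.mem_insert_self _ _, h⟩) v hv]
          exact (ih f hf).2 (fun ⟨g, hg, e'⟩ => e ⟨g, Finset.mem_insert_of_mem hg, e'⟩) v hv
  have := Fintype.ofFinite F
  obtain ⟨y, hy, hy'⟩ := ind Finset.univ
  have hy2 : ∀ f ∈ F, ∀ v ∈ V, ρ (f⁻¹ * y * f) v = t • v := fun f hf =>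
    (hy' f hf).1 ⟨⟨f, hf⟩, Finset.mem_univ _, by simpa using one_mem _⟩
  let N : Subgroup Y := Q ⊓ ⨅ f ∈ F, (fixSub ρ V).comap (MulAut.conj f⁻¹).toMonoidHom
  have hN : ∀ y, y ∈ N ↔ y ∈ Q ∧ ∀ f ∈ F, f⁻¹ * y * f ∈ fixSub ρ V := fun y => by
    simp only [N, mem_inf, mem_iInf, mem_comap, MulEquiv.toMonoidHom_eq_coe, MonoidHom.coe_coe,
      MulAut.conj_apply, inv_inv]
  have hyN : y ∈ N := hG.mem_of_comm (inf_le_left.trans hQG) (fun g hg =>
    mem_normalizer_of_conj_mem fun x hx => (hN _).2 ⟨conj_mem_of_mem_normalizer (hF hg)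
      ((hN x).1 hx).1, fun f hf => by
        have := ((hN x).1 hx).2 (g⁻¹ * f) (mul_mem (inv_mem hg) hf)
        simpa only [mul_inv_rev, inv_inv, mul_assoc] using this⟩) (hQG hy) fun g hg =>
    (hN _).2 ⟨by
      rw [commutatorElement_def, mul_assoc, mul_assoc]
      exact mul_mem hy (by
        simpa only [mul_assoc] using conj_mem_of_mem_normalizer (hF hg) (inv_mem hy)),
      fun f hf v hv => by
        have hq : (g⁻¹ * f)⁻¹ * y * (g⁻¹ * f) ∈ Q :=
          conj_mem_of_mem_normalizer' (hF (mul_mem (inv_mem hg) hf)) hy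
        have hv' := hQV _ (inv_mem hq) v hv
        have e0 : f⁻¹ * ⁅y, g⁆ * f = (f⁻¹ * y * f) * ((g⁻¹ * f)⁻¹ * y * (g⁻¹ * f))⁻¹ := by
          rw [commutatorElement_def]; group
        rw [e0, rho_mul_apply, hy2 f hf _ hv', ← hy2 _ (mul_mem (inv_mem hg) hf) _ hv',
          rho_apply_inv_apply]⟩
  refine hzV fun v hv => ?_
  rw [ht v hv, ← hy2 1 (one_mem _) v hv]
  exact ((hN y).1 hyN).2 1 (one_mem _) v hv

end CfsgLib.KH
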